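import Cfsg.Agent.Lib.McLUnique.ModelCodes

/-!
Relations in the model, checked on codes.
-/

set_option autoImplicit false
set_option maxRecDepth 100000
set_option Elab.async false

namespace CfsgLib.McLUnique.ModelCodes

open CfsgLib.Presented

set_option maxHeartbeats 0 in
theorem exOk1 : ((((Data.ex1 ++ Data.ex2).drop 54).take 54).all
    fun w => same w []) = true := by decide +kernel

end CfsgLib.McLUnique.ModelCodes
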